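import Cfsg.Agent.CompLength.Basic
import Cfsg.Agent.PGroups.AutOrder

/-!
# Numerical estimates, products, and automorphisms of elementary abelian groups
-/

set_option autoImplicit false
set_option linter.unusedSectionVars false

namespace Cfsg.Lib.CompLength

open Subgroup
open scoped ArithmeticFunction.Omega

theorem cl_pos {G : Type*} [Group G] [Finite G] [Nontrivial G] : 1 ≤ cl G :=
  le_cl (.step .bot (lt_of_le_of_ne bot_le bot_ne_top) inferInstance)

theorem cl_pi_succ {m : ℕ} (A : Fin (m + 1) → Type) [∀ i, Group (A i)] [∀ i, Finite (A i)] :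
    cl (∀ i, A i) = cl (A 0) + cl (∀ i : Fin m, A i.succ) := by
  let f : (∀ i, A i) →* A 0 := Pi.evalMonoidHom A 0
  have hf : Function.Surjective f := fun t => ⟨Fin.cons (α := A) t fun _ => 1, rfl⟩
  let e : f.ker ≃* (∀ i : Fin m, A i.succ) :=
    { toFun := fun x i => x.1 i.succ
      invFun := fun y => ⟨Fin.cons (α := A) 1 y, MonoidHom.mem_ker.2 rfl⟩
      left_inv := fun x => Subtype.ext (funext fun i => by
        induction i using Fin.cases with
        | zero => exact (MonoidHom.mem_ker.1 x.2).symm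
        | succ i => rfl)
      right_inv := fun y => funext fun i => rfl
      map_mul' := fun x y => rfl }
  rw [cl_eq f hf, cl_congr e, add_comm]

theorem le_cl_pi : ∀ {m : ℕ} (A : Fin m → Type) [∀ i, Group (A i)] [∀ i, Finite (A i)] [∀ i, Nontrivial (A i)],
    m ≤ cl (∀ i, A i)
  | 0, _, _, _, _ => Nat.zero_le _
  | m + 1, A, _, _, _ => by
    rw [cl_pi_succ A]
    have := cl_pos (G := A 0)
    have := le_cl_pi fun i : Fin m => A i.succ
    omega

theorem cl_power_le (T : Type) [Group T] [Finite T] [IsSimpleGroup T] : ∀ m : ℕ, cl (Fin m → T) ≤ m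
  | 0 => (cl_eq_zero Nat.card_unique).le
  | m + 1 => by
    rw [cl_pi_succ fun _ : Fin (m + 1) => T]
    have := cl_le_one (G := T)
    have := cl_power_le T m
    omega

theorem two_pow_cardFactors_le {x : ℕ} (hx : x ≠ 0) : 2 ^ Ω x ≤ x := by
  have h := List.pow_card_le_prod x.primeFactorsList 2 fun q hq => (Nat.prime_of_mem_primeFactorsList hq).two_le
  rwa [Nat.prod_primeFactorsList hx, ← ArithmeticFunction.cardFactors_apply] at h

theorem cardFactors_mono {d x : ℕ} (h : d ∣ x) (hx : x ≠ 0) : Ω d ≤ Ω x := by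
  obtain ⟨c, rfl⟩ := h
  rw [mul_ne_zero_iff] at hx
  rw [ArithmeticFunction.cardFactors_mul hx.1 hx.2]
  omega

theorem gl_prod_pos {p : ℕ} (hp : 2 ≤ p) (m : ℕ) : 0 < ∏ i ∈ Finset.range m, (p ^ m - p ^ i) :=
  Finset.prod_pos fun i hi => Nat.sub_pos_of_lt (Nat.pow_lt_pow_right hp (Finset.mem_range.1 hi))

theorem gl_prod_lt {p m : ℕ} (hp : 2 ≤ p) (hm : 1 ≤ m) :
    ∏ i ∈ Finset.range m, (p ^ m - p ^ i) < p ^ (m * m) := by
  obtain ⟨k, rfl⟩ := Nat.exists_eq_add_of_le hm
  rw [add_comm 1 k, Finset.prod_range_succ', pow_zero, pow_mul, pow_succ (p ^ (k + 1))]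
  have h1 : ∏ i ∈ Finset.range k, (p ^ (k + 1) - p ^ (i + 1)) ≤ (p ^ (k + 1)) ^ k :=
    (Finset.prod_le_prod' fun i _ => Nat.sub_le _ _).trans (by rw [Finset.prod_const, Finset.card_range])
  have h2 : 0 < p ^ (k + 1) := pow_pos (by omega) _
  calc _ ≤ (p ^ (k + 1)) ^ k * (p ^ (k + 1) - 1) := Nat.mul_le_mul_right _ h1
    _ < _ := Nat.mul_lt_mul_of_pos_left (by omega) (pow_pos h2 _)

theorem quad_le_two_pow : ∀ {m : ℕ}, 4 ≤ m → 3 * m + 3 * (m * m) + 1 ≤ 4 * 2 ^ m := by
  intro m hm
  induction m, hm using Nat.le_induction with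
  | base => norm_num
  | succ m hm ih =>
    rw [pow_succ]
    nlinarith [Nat.mul_le_mul_right m hm]

theorem quad_le_three_pow : ∀ {m : ℕ}, 2 ≤ m → 6 * (m * m) + 3 * m ≤ 4 * (3 ^ m - 1) := by
  intro m hm
  have : 6 * (m * m) + 3 * m + 4 ≤ 4 * 3 ^ m := by
    induction m, hm using Nat.le_induction with
    | base => norm_num
    | succ m hm ih =>
      rw [pow_succ]
      nlinarith [Nat.mul_le_mul_right m hm]
  omega

/-- The estimate for the affine case. -/
theorem affine_bound {p m d : ℕ} (hp : p.Prime) (hm : 2 ≤ m) (hd : d ∣ ∏ i ∈ Finset.range m, (p ^ m - p ^ i)) :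
    3 * (m + Ω d) ≤ 4 * (p ^ m - 1) := by
  have hp2 := hp.two_le
  have hpos := gl_prod_pos hp2 m
  have hmono := cardFactors_mono hd hpos.ne'
  have hlt := (two_pow_cardFactors_le hpos.ne').trans_lt (gl_prod_lt hp2 (by omega : 1 ≤ m))
  rcases eq_or_ne p 2 with rfl | hne
  · rw [Nat.pow_lt_pow_iff_right (by norm_num)] at hlt
    by_cases h4 : 4 ≤ m
    · have := quad_le_two_pow h4
      omega
    · interval_cases m
      · have h6 : ∏ i ∈ Finset.range 2, (2 ^ 2 - 2 ^ i) = 2 * 3 := by decide
        rw [h6, ArithmeticFunction.cardFactors_mul (by norm_num) (by norm_num),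
          ArithmeticFunction.cardFactors_apply_prime Nat.prime_two,
          ArithmeticFunction.cardFactors_apply_prime Nat.prime_three] at hmono
        omega
      · have h168 : ∏ i ∈ Finset.range 3, (2 ^ 3 - 2 ^ i) = 2 ^ 3 * 3 * 7 := by decide
        rw [h168, ArithmeticFunction.cardFactors_mul (by norm_num) (by norm_num),
          ArithmeticFunction.cardFactors_mul (by norm_num) (by norm_num),
          ArithmeticFunction.cardFactors_apply_prime_pow Nat.prime_two,
          ArithmeticFunction.cardFactors_apply_prime Nat.prime_three,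
          ArithmeticFunction.cardFactors_apply_prime (by norm_num : Nat.Prime 7)] at hmono
        omega
  · have hp3 : 3 ≤ p := by omega
    have hb : Ω (∏ i ∈ Finset.range m, (p ^ m - p ^ i)) < (p - 1) * (m * m) := by
      rw [← Nat.pow_lt_pow_iff_right (show 1 < 2 by norm_num), pow_mul]
      refine hlt.trans_le (Nat.pow_le_pow_left ?_ _)
      obtain ⟨q, rfl⟩ := Nat.exists_eq_add_of_le' hp.one_le
      have := Nat.lt_two_pow_self (n := q)
      simpa using this
    have hgrow : ∀ k : ℕ, (p - 1) * (3 ^ k - 1) ≤ 2 * (p ^ k - 1) := by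
      intro k
      induction k with
      | zero => simp
      | succ k ih =>
        have h1 := Nat.one_le_pow k 3 (by norm_num)
        have h2 := Nat.one_le_pow k p (by omega)
        have h3 := Nat.mul_le_mul_right (p ^ k - 1) hp3
        have e1 : 3 ^ (k + 1) - 1 = 3 * (3 ^ k - 1) + 2 := by rw [pow_succ]; omega
        have e2 : p ^ (k + 1) - 1 = p * (p ^ k - 1) + (p - 1) := by
          obtain ⟨x, hx⟩ := Nat.exists_eq_add_of_le h2
          rw [pow_succ, hx, Nat.add_sub_cancel_left, add_mul, one_mul, mul_comm x p]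
          omega
        rw [e1, e2, mul_add, mul_left_comm]
        omega
    have h5 := Nat.mul_le_mul_left (p - 1) (quad_le_three_pow hm)
    rw [mul_add, mul_left_comm (p - 1) 6, mul_left_comm (p - 1) 4] at h5
    have h6 := hgrow m
    have h7 : 2 * (3 * m) ≤ (p - 1) * (3 * m) := Nat.mul_le_mul_right _ (by omega)
    omega

/-- The order of the automorphism group of an elementary abelian group. -/
theorem card_aut_elementary {Q : Type*} [Group Q] [Finite Q] [IsMulCommutative Q] {p r : ℕ} [Fact p.Prime]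
    (hexp : ∀ x : Q, x ^ p = 1) (hr : Nat.card Q = p ^ r) :
    Nat.card (MulAut Q) ∣ ∏ i ∈ Finset.range r, (p ^ r - p ^ i) := by
  rw [← Cfsg.Lib.PGroups.card_generating_tuples hexp hr]
  letI : MulAction (MulAut Q) {s : Fin r → Q // closure (Set.range s) = ⊤} :=
    { smul := fun α f => ⟨fun i => α (f.1 i), by
        show closure (Set.range (α ∘ f.1)) = ⊤
        rw [Set.range_comp]
        have h := MonoidHom.map_closure α.toMonoidHom (Set.range f.1)
        rw [f.2, Subgroup.map_top_of_surjective _ α.surjective] at h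
        exact h.symm⟩
      one_smul := fun _ => rfl
      mul_smul := fun _ _ _ => rfl }
  exact Cfsg.Lib.PGroups.card_dvd_of_free fun α f h =>
    Cfsg.Lib.PGroups.aut_eq_one_of_fixes f.2 α fun i => congrFun (congrArg Subtype.val h) i

end Cfsg.Lib.CompLength
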