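import Mathlib

/-!
# The length of the longest subnormal series of a finite group
-/

set_option autoImplicit false
set_option linter.unusedSectionVars false

namespace Cfsg.Lib.CompLength

open Subgroup
open scoped ArithmeticFunction.Omega

variable {G Q : Type*} [Group G] [Group Q]

/-- `Chain K l`: there is a strictly increasing subnormal series of length `l` from `⊥` to `K`. -/
inductive Chain : Subgroup G → ℕ → Prop
  | bot : Chain ⊥ 0
  | step {H K : Subgroup G} {l : ℕ} : Chain H l → H < K → (H.subgroupOf K).Normal → Chain K (l + 1)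

theorem Chain.of_fin {l : ℕ} (H : Fin (l + 1) → Subgroup G) (h0 : H 0 = ⊥)
    (hchain : ∀ i : Fin l, H i.castSucc < H i.succ ∧ ((H i.castSucc).subgroupOf (H i.succ)).Normal)
    (i : Fin (l + 1)) : Chain (H i) i := by
  induction i using Fin.induction with
  | zero => rw [h0]; exact .bot
  | succ i ih => simpa using Chain.step ih (hchain i).1 (hchain i).2

theorem Chain.le_cardFactors [Finite G] {K : Subgroup G} {l : ℕ} (h : Chain K l) : l ≤ Ω (Nat.card K) := by
  induction h with
  | bot => exact Nat.zero_le _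
  | @step H K l _ hlt _ ih =>
    obtain ⟨c, hc⟩ := card_dvd_of_le hlt.le
    have hK : Nat.card K ≠ 0 := Nat.card_pos.ne'
    have hne : Nat.card H ≠ Nat.card K := fun e => hlt.ne (eq_of_le_of_card_ge hlt.le e.ge)
    rw [hc, ArithmeticFunction.cardFactors_mul Nat.card_pos.ne' (fun e => hK (by rw [hc, e, mul_zero]))]
    have hc1 : 1 < c := by
      by_contra hcon
      rcases (show c = 0 ∨ c = 1 by omega) with rfl | rfl
      · exact hK (by rw [hc, mul_zero])
      · exact hne (by rw [hc, mul_one])
    have := ArithmeticFunction.cardFactors_pos_iff_one_lt.2 hc1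
    omega

/-- The composition length. -/
noncomputable def cl (G : Type*) [Group G] : ℕ := sSup {l | Chain (⊤ : Subgroup G) l}

theorem chain_top_exists : ∃ l, Chain (⊤ : Subgroup G) l := by
  by_cases h : (⊥ : Subgroup G) = ⊤
  · exact ⟨0, h ▸ .bot⟩
  · exact ⟨1, .step .bot (lt_of_le_of_ne bot_le h) inferInstance⟩

theorem bddAbove_chain [Finite G] : BddAbove {l | Chain (⊤ : Subgroup G) l} :=
  ⟨_, fun _ hl => Chain.le_cardFactors hl⟩

theorem le_cl [Finite G] {l : ℕ} (h : Chain (⊤ : Subgroup G) l) : l ≤ cl G := le_csSup bddAbove_chain h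

theorem chain_cl [Finite G] : Chain (⊤ : Subgroup G) (cl G) :=
  Nat.sSup_mem (s := {l | Chain (⊤ : Subgroup G) l}) chain_top_exists bddAbove_chain

theorem cl_le_cardFactors [Finite G] : cl G ≤ Ω (Nat.card G) := by
  simpa using (chain_cl (G := G)).le_cardFactors

theorem cl_eq_zero [Finite G] (h : Nat.card G = 1) : cl G = 0 := by
  have := cl_le_cardFactors (G := G)
  rw [h, ArithmeticFunction.cardFactors_one] at this
  omega

theorem cl_le_one [Finite G] [IsSimpleGroup G] : cl G ≤ 1 := by
  have h := chain_cl (G := G)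
  generalize hK : (⊤ : Subgroup G) = K at h
  generalize cl G = c at h ⊢
  cases h with
  | bot => exact Nat.zero_le _
  | @step H _ l hH hlt hn =>
    subst hK
    have hN : H.Normal := ⟨fun x hx g => (normal_subgroupOf_iff le_top).1 hn x g hx (mem_top _)⟩
    have hb := hN.eq_bot_or_eq_top.resolve_right hlt.ne
    subst hb
    have := hH.le_cardFactors
    rw [card_bot, ArithmeticFunction.cardFactors_one] at this
    omega

theorem Chain.split (f : G →* Q) {K : Subgroup G} {l : ℕ} (h : Chain K l) :
    ∃ a b, Chain (K.comap f.ker.subtype) a ∧ Chain (K.map f) b ∧ l ≤ a + b := by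
  induction h with
  | bot =>
    refine ⟨0, 0, ?_, ?_, le_rfl⟩
    · rw [show (⊥ : Subgroup G).comap f.ker.subtype = ⊥ from
        (Subgroup.eq_bot_iff_forall _).2 fun x hx => Subtype.ext (mem_bot.1 hx)]
      exact .bot
    · rw [Subgroup.map_bot]; exact .bot
  | @step H K l _ hlt hn ih =>
    obtain ⟨a, b, ha, hb, hab⟩ := ih
    have hn' := (normal_subgroupOf_iff hlt.le).1 hn
    have hnc : ((H.comap f.ker.subtype).subgroupOf (K.comap f.ker.subtype)).Normal :=
      (normal_subgroupOf_iff (comap_mono hlt.le)).2 fun x y hx hy => hn' _ _ hx hy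
    have hnm : ((H.map f).subgroupOf (K.map f)).Normal :=
      (normal_subgroupOf_iff (map_mono hlt.le)).2 fun x y hx hy => by
        obtain ⟨x, hx, rfl⟩ := hx
        obtain ⟨y, hy, rfl⟩ := hy
        exact ⟨y * x * y⁻¹, hn' x y hx hy, by simp⟩
    rcases (comap_mono hlt.le : H.comap f.ker.subtype ≤ _).eq_or_lt with h1 | h1
    · rcases (map_mono hlt.le : H.map f ≤ _).eq_or_lt with h2 | h2
      · refine absurd (le_antisymm hlt.le fun x hx => ?_) hlt.ne
        obtain ⟨y, hy, hyx⟩ := h2.ge (mem_map_of_mem f hx)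
        have hk : y⁻¹ * x ∈ f.ker := by simp [MonoidHom.mem_ker, hyx]
        have h3 : (⟨y⁻¹ * x, hk⟩ : f.ker) ∈ H.comap f.ker.subtype :=
          h1.ge (mem_comap.2 (mul_mem (inv_mem (hlt.le hy)) hx))
        simpa using mul_mem hy (mem_comap.1 h3)
      · exact ⟨a, b + 1, h1 ▸ ha, .step hb h2 hnm, by omega⟩
    · rcases (map_mono hlt.le : H.map f ≤ _).eq_or_lt with h2 | h2
      · exact ⟨a + 1, b, .step ha h1 hnc, h2 ▸ hb, by omega⟩
      · exact ⟨a + 1, b + 1, .step ha h1 hnc, .step hb h2 hnm, by omega⟩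

theorem Chain.map {f : G →* Q} (hf : Function.Injective f) {K : Subgroup G} {l : ℕ} (h : Chain K l) :
    Chain (K.map f) l := by
  induction h with
  | bot => rw [Subgroup.map_bot]; exact .bot
  | @step H K l _ hlt hn ih =>
    refine .step ih (lt_of_le_of_ne (map_mono hlt.le) fun e => hlt.ne (map_injective hf e)) ?_
    refine (normal_subgroupOf_iff (map_mono hlt.le)).2 fun x y hx hy => ?_
    obtain ⟨x, hx, rfl⟩ := hx
    obtain ⟨y, hy, rfl⟩ := hy
    exact ⟨y * x * y⁻¹, (normal_subgroupOf_iff hlt.le).1 hn x y hx hy, by simp⟩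

theorem Chain.comap {f : G →* Q} (hf : Function.Surjective f) {a : ℕ} (ha : Chain f.ker a) {L : Subgroup Q}
    {b : ℕ} (h : Chain L b) : Chain (L.comap f) (a + b) := by
  induction h with
  | bot => rwa [MonoidHom.comap_bot, add_zero]
  | @step H K l _ hlt hn ih =>
    refine .step ih (lt_of_le_of_ne (comap_mono hlt.le) fun e => hlt.ne (comap_injective hf e)) ?_
    refine (normal_subgroupOf_iff (comap_mono hlt.le)).2 fun x y hx hy => ?_
    show f (y * x * y⁻¹) ∈ H
    rw [map_mul, map_mul, map_inv]
    exact (normal_subgroupOf_iff hlt.le).1 hn _ _ hx hy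

/-- The composition length is additive. -/
theorem cl_eq [Finite G] [Finite Q] (f : G →* Q) (hf : Function.Surjective f) :
    cl G = cl f.ker + cl Q := by
  apply le_antisymm
  · obtain ⟨a, b, ha, hb, hab⟩ := (chain_cl (G := G)).split f
    rw [comap_top] at ha
    rw [map_top_of_surjective f hf] at hb
    have := le_cl ha
    have := le_cl hb
    omega
  · have h1 := (chain_cl (G := f.ker)).map (f := f.ker.subtype) (subtype_injective _)
    rw [← MonoidHom.range_eq_map, range_subtype] at h1
    have h2 := Chain.comap hf h1 (chain_cl (G := Q))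
    rw [comap_top] at h2
    exact le_cl h2

theorem cl_congr [Finite G] [Finite Q] (e : G ≃* Q) : cl G = cl Q := by
  rw [cl_eq e.toMonoidHom e.surjective, cl_eq_zero, zero_add]
  rw [(MonoidHom.ker_eq_bot_iff _).2 e.injective, card_bot]

theorem cl_le_of_surjective [Finite G] [Finite Q] (f : G →* Q) (hf : Function.Surjective f) : cl Q ≤ cl G := by
  rw [cl_eq f hf]; omega

theorem cl_eq_range [Finite G] [Finite Q] (f : G →* Q) : cl G = cl f.ker + cl f.range := by
  rw [cl_eq f.rangeRestrict f.rangeRestrict_surjective, cl_congr (MulEquiv.subgroupCongr f.ker_rangeRestrict)]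

theorem cl_normal [Finite G] (N : Subgroup G) [N.Normal] : cl G = cl N + cl (G ⧸ N) := by
  rw [cl_eq (QuotientGroup.mk' N) (QuotientGroup.mk'_surjective N),
    cl_congr (MulEquiv.subgroupCongr (QuotientGroup.ker_mk' N))]

end Cfsg.Lib.CompLength
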