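import Cfsg.Agent.CompLength.Primitive

/-!
# The composition length of a permutation group
-/

set_option autoImplicit false
set_option linter.unusedSectionVars false

namespace Cfsg.Lib.CompLength

open Subgroup MulAction

theorem cl_of_subsingleton (G : Type*) [Group G] [Finite G] [Subsingleton G] : cl G = 0 :=
  cl_eq_zero Nat.card_unique

/-- The bound for a primitive group of degree at least two. -/
theorem primitive {α : Type} [Finite α] (H : Subgroup (Equiv.Perm α)) [IsPreprimitive H α]
    (hb : Below (Nat.card α)) (h2 : 2 ≤ Nat.card α) : 3 * cl H ≤ 4 * (Nat.card α - 1) := by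
  obtain ⟨a⟩ : Nonempty α := (Nat.card_ne_zero.1 (by omega : Nat.card α ≠ 0)).1
  by_cases hbot : (⊥ : Subgroup H) = ⊤
  · haveI : Subsingleton H := Subgroup.subsingleton_iff.1 (subsingleton_iff_bot_eq_top.1 hbot)
    rw [cl_of_subsingleton H]; omega
  obtain ⟨N, ⟨hNn, hne⟩, hNmin⟩ := (Set.toFinite {K : Subgroup H | K.Normal ∧ K ≠ ⊥}).exists_minimal
    ⟨⊤, inferInstance, Ne.symm hbot⟩
  haveI := hNn
  have hmin : ∀ M : Subgroup H, M.Normal → M ≤ N → M = ⊥ ∨ M = N := fun M hM hMN => by
    by_cases hM0 : M = ⊥
    · exact Or.inl hM0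
    · exact Or.inr (le_antisymm hMN (hNmin ⟨hM, hM0⟩ hMN))
  haveI := Cfsg.Lib.PrimTypes.pretransitive_of_normal (Ω := α) (G := H) inferInstance N hne
  by_cases h1 : cl N ≤ 1
  · have h3 := cl_stabilizer_eq N a
    have h4 := cl_stabilizer_le (G := H) hb a h2
    rw [cl_normal N]
    omega
  by_cases hab : IsMulCommutative N
  · exact affine inferInstance hne hmin hab a (by omega)
  by_cases hC : centralizer (N : Set H) = ⊥
  · exact monolith H hb N hne hmin hab hC a h2
  · refine two_socle inferInstance hb hne hmin hab ?_ hC a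
    obtain ⟨T, iT, m, hsimp, hm, ⟨e⟩⟩ := Cfsg.Agent.S0721.result N hne hmin
    haveI : Finite T := Finite.of_injective (fun t : T => e.symm (Pi.mulSingle (⟨0, hm⟩ : Fin m) t))
      (e.symm.injective.comp (Pi.mulSingle_injective (M := fun _ : Fin m => T) _))
    have hS : IsSimpleGroup (⊤ : Subgroup T) := Subgroup.topEquiv.isSimpleGroup
    have h3p := Cfsg.Lib.PrimTypes.exists_three_primes hS fun h => hab ⟨⟨fun p q => e.injective (by
      rw [map_mul, map_mul]
      funext i
      exact congrArg Subtype.val (h.is_comm.comm (⟨e p i, mem_top _⟩ : (⊤ : Subgroup T)) ⟨e q i, mem_top _⟩))⟩⟩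
    rwa [Nat.card_congr e.toEquiv, Nat.card_fun, Nat.card_fin, Nat.primeFactors_pow _ hm.ne', ← card_top]

theorem orb_range (G α : Type) [Group G] [MulAction G α] : orb (toPermHom G α).range α = orb G α :=
  Nat.card_congr (Quotient.congrRight fun x y => by
    constructor
    · rintro ⟨⟨_, g, rfl⟩, h⟩; exact ⟨g, h⟩
    · rintro ⟨g, h⟩; exact ⟨⟨_, g, rfl⟩, h⟩)

/-- The bound holds for every degree. -/
theorem below : ∀ n, Below n := by
  intro n
  induction n using Nat.strong_induction_on with
  | _ n ih =>
    intro G _ _ α _ _ _ hlt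
    have hb : Below (Nat.card α) := ih _ hlt
    have hinj : Function.Injective (toPermHom G α) := MulAction.toPerm_injective
    rw [cl_congr (MonoidHom.ofInjective hinj), ← orb_range G α]
    generalize (toPermHom G α).range = H
    by_cases h2 : 2 ≤ orb H α
    · exact intransitive hb h2
    by_cases hn : Nat.card α ≤ 1
    · haveI : Subsingleton α := Finite.card_le_one_iff_subsingleton.1 hn
      haveI : Subsingleton H := ⟨fun g h => Subtype.ext (Subsingleton.elim _ _)⟩
      rw [cl_of_subsingleton H]; omega
    haveI : Subsingleton (Quotient (MulAction.orbitRel H α)) :=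
      Finite.card_le_one_iff_subsingleton.1 (by unfold orb at h2; omega)
    haveI : IsPretransitive H α :=
      ⟨fun x y => Quotient.exact (Subsingleton.elim (Quotient.mk (MulAction.orbitRel H α) y) ⟦x⟧)⟩
    haveI : Nonempty α := (Nat.card_ne_zero.1 (by omega : Nat.card α ≠ 0)).1
    rw [orb_of_pretransitive H α]
    by_cases hp : IsPreprimitive H α
    · exact primitive H hb (by omega)
    · exact imprimitive hb hp

/-- The composition length of a group acting faithfully on `n` points with `r` orbits. -/
theorem three_mul_cl_le (G Ω : Type*) [Group G] [Finite G] [MulAction G Ω] [FaithfulSMul G Ω] [Fintype Ω] :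
    3 * cl G ≤ 4 * (Fintype.card Ω - Nat.card (Quotient (MulAction.orbitRel G Ω))) := by
  let e := Fintype.equivFin Ω
  let f : G →* Equiv.Perm (Fin (Fintype.card Ω)) := e.permCongrHom.toMonoidHom.comp (toPermHom G Ω)
  have hinj : Function.Injective f := e.permCongrHom.injective.comp MulAction.toPerm_injective
  have hf : ∀ g x, f g (e x) = e (g • x) := fun g x => by simp [f]
  have h := below (Fintype.card Ω + 1) f.range (Fin (Fintype.card Ω)) (by rw [Nat.card_fin]; omega)
  have horb : Nat.card (Quotient (MulAction.orbitRel G Ω)) = orb f.range (Fin (Fintype.card Ω)) :=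
    Nat.card_congr (Quotient.congr e fun x y => by
      constructor
      · rintro ⟨g, h⟩
        exact ⟨⟨f g, g, rfl⟩, by rw [← h]; exact hf g y⟩
      · rintro ⟨⟨_, g, rfl⟩, h⟩
        exact ⟨g, e.injective ((hf g y).symm.trans h)⟩)
  rw [cl_congr (MonoidHom.ofInjective hinj), horb]
  rwa [Nat.card_fin] at h

end Cfsg.Lib.CompLength
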