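import Cfsg.Agent.CompLength.Basic

/-!
# The bound `3 cl ≤ 4 (n - r)`: reduction to primitive groups
-/

set_option autoImplicit false
set_option linter.unusedSectionVars false

namespace Cfsg.Lib.CompLength

open Subgroup MulAction
open scoped Pointwise

/-- The number of orbits. -/
noncomputable def orb (G : Type*) (α : Type*) [Group G] [MulAction G α] : ℕ :=
  Nat.card (Quotient (MulAction.orbitRel G α))

theorem one_le_orb (G : Type*) (α : Type*) [Group G] [MulAction G α] [Finite α] [Nonempty α] : 1 ≤ orb G α :=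
  Nat.one_le_iff_ne_zero.2 (Nat.card_ne_zero.2 ⟨⟨Quotient.mk _ (Classical.arbitrary α)⟩, inferInstance⟩)

theorem orb_le (G : Type*) (α : Type*) [Group G] [MulAction G α] [Finite α] : orb G α ≤ Nat.card α :=
  Nat.card_le_card_of_surjective (Quotient.mk (MulAction.orbitRel G α)) Quotient.mk_surjective

theorem orb_of_pretransitive (G : Type*) (α : Type*) [Group G] [MulAction G α] [Finite α] [Nonempty α]
    [IsPretransitive G α] : orb G α = 1 := by
  refine le_antisymm (Finite.card_le_one_iff_subsingleton.2 ⟨fun p q => ?_⟩) (one_le_orb G α)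
  induction p, q using Quotient.inductionOn₂ with
  | _ x y => exact Quotient.sound (exists_smul_eq G y x)

/-- The bound holds for all faithful actions on fewer than `n` points. -/
def Below (n : ℕ) : Prop :=
  ∀ (G : Type) [Group G] [Finite G] (α : Type) [Finite α] [MulAction G α] [FaithfulSMul G α],
    Nat.card α < n → 3 * cl G ≤ 4 * (Nat.card α - orb G α)

theorem Below.nonempty {n : ℕ} (hn : Below n) {G : Type} [Group G] [Finite G] {α : Type} [Finite α] [Nonempty α]
    [MulAction G α] [FaithfulSMul G α] (h : Nat.card α < n) : 3 * cl G ≤ 4 * (Nat.card α - 1) := by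
  have := hn G α h
  have := one_le_orb G α
  omega

variable {G : Type} [Group G] [Finite G] {α : Type} [Finite α] [MulAction G α] [FaithfulSMul G α]

/-- The intransitive case. -/
theorem intransitive (hb : Below (Nat.card α)) (h2 : 2 ≤ orb G α) :
    3 * cl G ≤ 4 * (Nat.card α - orb G α) := by
  classical
  obtain ⟨a⟩ : Nonempty α := by
    by_contra h
    rw [not_nonempty_iff] at h
    have := orb_le G α
    rw [Nat.card_of_isEmpty] at this
    omega
  let O : SubMulAction G α := ⟨orbit G a, fun g x hx => mem_orbit_of_mem_orbit g hx⟩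
  haveI : Nonempty O := ⟨⟨a, mem_orbit_self a⟩⟩
  let f := toPermHom G O
  have hne : ∃ x, x ∉ orbit G a := by
    by_contra! h
    haveI : IsPretransitive G α :=
      ⟨fun x y => mem_orbit_iff.1 ((orbit_eq_iff.2 (h x)).symm ▸ h y)⟩
    have := @orb_of_pretransitive G α _ _ _ ⟨a⟩ _
    omega
  let C : SubMulAction f.ker α := ⟨(orbit G a)ᶜ, fun g x hx hgx => hx (by
    simpa using mem_orbit_of_mem_orbit (g : G)⁻¹ (show (g : G) • x ∈ orbit G a from hgx))⟩
  haveI : FaithfulSMul f.ker C := ⟨fun {k l} h => Subtype.ext (eq_of_smul_eq_smul (α := α) fun x => by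
    by_cases hx : x ∈ orbit G a
    · have hk := congrArg Subtype.val (Equiv.congr_fun (MonoidHom.mem_ker.1 k.2) (⟨x, hx⟩ : O))
      have hl := congrArg Subtype.val (Equiv.congr_fun (MonoidHom.mem_ker.1 l.2) (⟨x, hx⟩ : O))
      exact hk.trans hl.symm
    · exact congrArg Subtype.val (h ⟨x, hx⟩))⟩
  have hcard : Nat.card O + Nat.card C = Nat.card α := Set.ncard_add_ncard_compl (orbit G a)
  have hO : 0 < Nat.card O := Nat.card_pos
  haveI : Nonempty C := ⟨⟨hne.choose, hne.choose_spec⟩⟩
  have hC : 0 < Nat.card C := Nat.card_pos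
  have h1 := hb.nonempty (G := f.range) (α := O) (by omega)
  have h3 := hb f.ker C (by omega)
  have h4 : orb G α ≤ orb f.ker C + 1 := by
    let F : Option (Quotient (orbitRel f.ker C)) → Quotient (orbitRel G α) := fun o => o.elim ⟦a⟧
      (Quotient.lift (fun x => ⟦(x : α)⟧) fun x y hxy => by
        obtain ⟨k, hk⟩ := hxy
        exact Quotient.sound ⟨(k : G), congrArg Subtype.val hk⟩)
    have hF : Function.Surjective F := fun q => by
      induction q using Quotient.inductionOn with
      | _ x =>
        by_cases hx : x ∈ orbit G a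
        · exact ⟨none, Quotient.sound (mem_orbit_symm.1 hx)⟩
        · exact ⟨some ⟦⟨x, hx⟩⟧, rfl⟩
    exact (Nat.card_le_card_of_surjective F hF).trans Finite.card_option.le
  have := orb_le f.ker C
  rw [cl_eq_range f]
  omega

/-- The imprimitive case. -/
theorem imprimitive (hb : Below (Nat.card α)) [IsPretransitive G α] [Nonempty α] (hnp : ¬ IsPreprimitive G α) :
    3 * cl G ≤ 4 * (Nat.card α - 1) := by
  classical
  obtain ⟨B, hB, hnt⟩ : ∃ B : Set α, IsBlock G B ∧ ¬ IsTrivialBlock B := by
    by_contra! h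
    exact hnp { isTrivialBlock_of_isBlock := fun {B} hB => h B hB }
  simp only [IsTrivialBlock, not_or] at hnt
  have hne : B.Nonempty := Set.nonempty_iff_ne_empty.2 fun e => hnt.1 (e ▸ Set.subsingleton_empty)
  have hmul := hB.ncard_block_mul_ncard_orbit_eq hne
  have hB2 : 2 ≤ B.ncard := by
    by_contra hcon
    exact hnt.1 ((Set.ncard_le_one_iff_subsingleton (s := B)).1 (by omega))
  have hb2 : 2 ≤ (orbit G B).ncard := by
    by_contra hcon
    refine hnt.2 (Set.eq_of_subset_of_ncard_le (Set.subset_univ B) ?_)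
    rw [Set.ncard_univ, ← hmul]
    exact (Nat.mul_le_mul_left _ (show (orbit G B).ncard ≤ 1 by omega)).trans (mul_one _).le
  have hlt : (orbit G B).ncard < Nat.card α := by
    have h5 := Nat.mul_le_mul_right (orbit G B).ncard hB2
    omega
  haveI : Nonempty (orbit G B) := ⟨⟨B, mem_orbit_self B⟩⟩
  have h1 := hb.nonempty (G := (toPermHom G (orbit G B)).range) (α := orbit G B) hlt
  set K := (toPermHom G (orbit G B)).ker with hK
  have hfix : ∀ k ∈ K, ∀ g : G, k • g • B = g • B := fun k hk g =>
    congrArg Subtype.val (Equiv.congr_fun (MonoidHom.mem_ker.1 hk) ⟨g • B, mem_orbit B g⟩)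
  have hcov : ∀ x : α, ∃ g : G, x ∈ g • B := fun x => by
    obtain ⟨b, hb⟩ := hne
    obtain ⟨g, rfl⟩ := exists_smul_eq G b x
    exact ⟨g, Set.smul_mem_smul_set hb⟩
  choose γ hγ using hcov
  have huni : ∀ (g h : G) (x : α), x ∈ g • B → x ∈ h • B → g • B = h • B := fun g h x hg hh =>
    hB.smul_eq_smul_of_nonempty ⟨x, hg, hh⟩
  let F : Quotient (orbitRel K α) → orbit G B :=
    Quotient.lift (fun x => ⟨γ x • B, mem_orbit B _⟩) fun x y hxy => by
      obtain ⟨⟨k, hk⟩, rfl⟩ := hxy
      refine Subtype.ext (huni _ _ (k • y) (hγ _) ?_)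
      rw [← hfix k hk (γ y)]
      exact Set.smul_mem_smul_set (hγ y)
  have hF : Function.Surjective F := fun ⟨S, g, hg⟩ => by
    subst hg
    obtain ⟨b, hb⟩ := hne
    exact ⟨⟦g • b⟧, Subtype.ext (huni _ _ _ (hγ _) (Set.smul_mem_smul_set hb))⟩
  have hr : (orbit G B).ncard ≤ orb K α := Nat.card_le_card_of_surjective F hF
  have h3 := intransitive hb (G := K) (α := α) (by omega)
  have := orb_le K α
  rw [show Nat.card (orbit G B) = (orbit G B).ncard from rfl] at h1
  rw [cl_eq_range (toPermHom G (orbit G B)), ← hK]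
  omega

end Cfsg.Lib.CompLength
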