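import Cfsg.Agent.CompLength.Orbits
import Cfsg.Agent.CompLength.Arith
import Cfsg.Agent.PrimTypes.Basic
import Cfsg.Agent.PrimTypes.Dichotomy
import Cfsg.Agent.S0721
import Cfsg.Agent.S0723

/-!
# The bound for primitive groups

The socle cases are: simple, elementary abelian, and non-simple non-abelian. In the last case a conjugacy class
of elements of prime order is a faithful action on fewer points, except in product action, where the point
stabiliser meets the socle in a group of composition length at least the number of factors.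
-/

set_option autoImplicit false
set_option linter.unusedSectionVars false

namespace Cfsg.Lib.CompLength

open Subgroup MulAction

variable {G : Type} [Group G] [Finite G]

/-- Conjugates of `x`. -/
def cls (x : G) : Set G := Set.range fun g : G => g * x * g⁻¹

theorem mem_cls_self (x : G) : x ∈ cls x := ⟨1, by simp⟩

theorem cls_conj {x c : G} (hc : c ∈ cls x) (g : G) : g * c * g⁻¹ ∈ cls x := by
  obtain ⟨h, rfl⟩ := hc
  exact ⟨g * h, by group⟩

/-- A faithful conjugation action on fewer points. -/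
theorem bound_of_conj {n : ℕ} (hb : Below n) {E : Set G} (hne : E.Nonempty) (hinv : ∀ c ∈ E, ∀ g : G, g * c * g⁻¹ ∈ E)
    (hker : ∀ g : G, (∀ c ∈ E, g * c = c * g) → g = 1) (hlt : E.ncard < n) : 3 * cl G ≤ 4 * (n - 1) := by
  haveI : Nonempty E := hne.to_subtype
  letI : MulAction G E :=
    { smul := fun g c => ⟨g * c * g⁻¹, hinv c c.2 g⟩
      one_smul := fun c => Subtype.ext (show 1 * (c : G) * 1⁻¹ = c by simp)
      mul_smul := fun g h c => Subtype.ext (show g * h * (c : G) * (g * h)⁻¹ = g * (h * c * h⁻¹) * g⁻¹ by group) }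
  haveI : FaithfulSMul G E := ⟨fun {g h} e => by
    refine (inv_mul_eq_one.1 (hker (g⁻¹ * h) fun c hc => ?_))
    have h1 : g * c * g⁻¹ = h * c * h⁻¹ := congrArg Subtype.val (e ⟨c, hc⟩)
    calc g⁻¹ * h * c = g⁻¹ * (h * c * h⁻¹) * h := by group
      _ = g⁻¹ * (g * c * g⁻¹) * h := by rw [h1]
      _ = c * (g⁻¹ * h) := by group⟩
  have h := hb.nonempty (G := G) (α := E) hlt
  rw [show Nat.card E = E.ncard from rfl] at h
  omega

/-- Three primes give a small class. -/
theorem exists_small_cls {E : Set G} (hinv : ∀ c ∈ E, ∀ g : G, g * c * g⁻¹ ∈ E) {P : Finset ℕ}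
    (hP : 3 ≤ P.card) (hex : ∀ p ∈ P, ∃ x ∈ E, orderOf x = p) : ∃ x ∈ E, 3 * (cls x).ncard ≤ E.ncard := by
  classical
  haveI := Fintype.ofFinite G
  choose! x hxE hxp using hex
  have hord : ∀ p ∈ P, ∀ c ∈ cls (x p), orderOf c = p := by
    rintro p hp c ⟨g, rfl⟩
    exact (orderOf_injective (MulAut.conj g).toMonoidHom (MulAut.conj g).injective (x p)).trans (hxp p hp)
  have hsum : ∑ p ∈ P, (cls (x p)).toFinset.card ≤ E.toFinset.card := by
    rw [← Finset.card_biUnion fun p hp q hq hpq => Finset.disjoint_left.2 fun c hc hc' =>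
      hpq ((hord p hp c (Set.mem_toFinset.1 hc)).symm.trans (hord q hq c (Set.mem_toFinset.1 hc')))]
    refine Finset.card_le_card fun c hc => ?_
    obtain ⟨p, hp, hcp⟩ := Finset.mem_biUnion.1 hc
    obtain ⟨g, rfl⟩ := Set.mem_toFinset.1 hcp
    exact Set.mem_toFinset.2 (hinv _ (hxE p hp) g)
  obtain ⟨p, hp, hmin⟩ := Finset.exists_min_image P (fun p => (cls (x p)).toFinset.card)
    (Finset.card_pos.1 (by omega))
  refine ⟨x p, hxE p hp, ?_⟩
  have h := (Finset.card_nsmul_le_sum P _ _ hmin).trans hsum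
  rw [smul_eq_mul] at h
  rw [Set.ncard_eq_toFinset_card', Set.ncard_eq_toFinset_card']
  exact (Nat.mul_le_mul_right _ hP).trans h

theorem le_centralizer_of_cls {N : Subgroup G} [N.Normal]
    (hmin : ∀ M : Subgroup G, M.Normal → M ≤ N → M = ⊥ ∨ M = N) {x : G} (hx : x ∈ N) (hx1 : x ≠ 1) {g : G}
    (h : ∀ c ∈ cls x, g * c = c * g) : g ∈ centralizer (N : Set G) := by
  have hZ : normalClosure {x} = N :=
    (hmin _ normalClosure_normal (normalClosure_le_normal (Set.singleton_subset_iff.2 hx))).resolve_left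
      fun e => hx1 (mem_bot.1 (e ▸ subset_normalClosure (Set.mem_singleton x)))
  have hle : normalClosure {x} ≤ centralizer {g} := (closure_le _).2 fun z hz => by
    obtain ⟨_, hy, hz⟩ := Group.mem_conjugatesOfSet_iff.1 hz
    rw [Set.mem_singleton_iff.1 hy] at hz
    obtain ⟨k, rfl⟩ := isConj_iff.1 hz
    exact mem_centralizer_singleton_iff.2 (h _ ⟨k, rfl⟩).symm
  refine mem_centralizer_iff.2 fun z hz => ?_
  exact mem_centralizer_singleton_iff.1 (hle (hZ.ge hz))

theorem semiregular_card_le {α : Type} [Finite α] [MulAction G α] {X : Subgroup G} (a : α)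
    (h : ∀ x ∈ X, x • a = a → x = 1) : Nat.card X ≤ Nat.card α :=
  Nat.card_le_card_of_injective (fun x : X => (x : G) • a) fun x y e => Subtype.ext
    (inv_mul_eq_one.1 (h _ (mul_mem (inv_mem x.2) y.2) (by
      rw [mul_smul]; exact inv_smul_eq_iff.2 e.symm)))

variable {α : Type} [Finite α] [MulAction G α] [FaithfulSMul G α]

theorem card_stabilizer_eq (N : Subgroup G) (a : α) [IsPretransitive N α] :
    Nat.card α * Nat.card (stabilizer N a) = Nat.card N := by
  rw [← index_stabilizer_of_transitive N a, index_mul_card]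

theorem cl_stabilizer_eq (N : Subgroup G) [N.Normal] (a : α) [IsPretransitive N α] :
    cl (stabilizer G a) = cl (stabilizer N a) + cl (G ⧸ N) := by
  let q : stabilizer G a →* G ⧸ N := (QuotientGroup.mk' N).comp (stabilizer G a).subtype
  have hq : Function.Surjective q := fun y => by
    induction y using QuotientGroup.induction_on with
    | _ g =>
      obtain ⟨⟨n, hn⟩, hna⟩ := exists_smul_eq N (g • a) a
      refine ⟨⟨n * g, by rw [mem_stabilizer_iff, mul_smul]; exact hna⟩, QuotientGroup.eq.2 ?_⟩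
      have := (inferInstance : N.Normal).conj_mem n⁻¹ (inv_mem hn) g⁻¹
      simpa [mul_assoc] using this
  let e : q.ker ≃* stabilizer N a :=
    { toFun := fun x => ⟨⟨(x.1 : G), (QuotientGroup.eq_one_iff _).1 x.2⟩, x.1.2⟩
      invFun := fun y => ⟨⟨(y.1 : G), y.2⟩, (QuotientGroup.eq_one_iff _).2 y.1.2⟩
      left_inv := fun _ => rfl
      right_inv := fun _ => rfl
      map_mul' := fun _ _ => rfl }
  rw [cl_eq q hq, cl_congr e]

theorem cl_stabilizer_le (hb : Below (Nat.card α)) (a : α) (h2 : 2 ≤ Nat.card α) :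
    3 * cl (stabilizer G a) ≤ 4 * (Nat.card α - 2) := by
  let C : SubMulAction (stabilizer G a) α := ⟨{x | x ≠ a}, fun g x hx hgx => hx
    (smul_left_cancel (g : G) ((show (g : G) • x = a from hgx).trans g.2.symm))⟩
  haveI : FaithfulSMul (stabilizer G a) C := ⟨fun {g h} e => Subtype.ext (eq_of_smul_eq_smul (α := α) fun x => by
    by_cases hx : x = a
    · subst hx
      rw [(g.2 : (g : G) • x = x), (h.2 : (h : G) • x = x)]
    · exact congrArg Subtype.val (e ⟨x, hx⟩))⟩
  have hC : Nat.card C = Nat.card α - 1 := by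
    have := Set.ncard_add_ncard_compl {a}
    rw [Set.ncard_singleton] at this
    have h3 : Nat.card C = ({a}ᶜ : Set α).ncard := rfl
    omega
  haveI : Nonempty C := (Nat.card_ne_zero.1 (by omega : Nat.card C ≠ 0)).1
  have := hb.nonempty (G := stabilizer G a) (α := C) (by omega)
  omega

/-- The affine case. -/
theorem affine (hprim : IsPreprimitive G α) {N : Subgroup G} [N.Normal] (hne : N ≠ ⊥)
    (hmin : ∀ M : Subgroup G, M.Normal → M ≤ N → M = ⊥ ∨ M = N) (hab : IsMulCommutative N) (a : α)
    (hN1 : 2 ≤ cl N) : 3 * cl G ≤ 4 * (Nat.card α - 1) := by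
  obtain ⟨p, hp, hexp, htr, hreg⟩ :=
    Cfsg.Lib.PrimTypes.abelian_regular hprim (inferInstance : N.Normal) hne hmin hab
  haveI := htr
  haveI := Fact.mk hp
  have hP : IsPGroup p N := fun x => ⟨1, Subtype.ext (by rw [pow_one]; exact hexp x x.2)⟩
  obtain ⟨m, hm⟩ := IsPGroup.iff_card.1 hP
  have hn : Nat.card α = p ^ m := by
    have h := card_stabilizer_eq N a
    rwa [hreg a, card_bot, mul_one, hm] at h
  have hcl : cl N ≤ m := by
    refine cl_le_cardFactors.trans ?_
    rw [hm, ArithmeticFunction.cardFactors_apply_prime_pow hp]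
  have hinj : Function.Injective ((MulAut.conjNormal (H := N)).comp (stabilizer G a).subtype) := by
    rw [injective_iff_map_eq_one]
    intro g hg
    refine Subtype.ext (eq_of_smul_eq_smul (α := α) fun z => ?_)
    obtain ⟨n, hna⟩ := exists_smul_eq N a z
    subst hna
    have h1 : (g : G) * n * (g : G)⁻¹ = n := congrArg Subtype.val (MulEquiv.congr_fun hg n)
    rw [mul_inv_eq_iff_eq_mul] at h1
    show (g : G) • (n : G) • a = (1 : G) • (n : G) • a
    rw [← mul_smul, h1, mul_smul, (g.2 : (g : G) • a = a), one_smul]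
  have hd : Nat.card (stabilizer G a) ∣ ∏ i ∈ Finset.range m, (p ^ m - p ^ i) :=
    (Subgroup.card_dvd_of_injective _ hinj).trans
      (card_aut_elementary (fun x : N => Subtype.ext (hexp x x.2)) hm)
  have h1 := affine_bound hp (by omega) hd
  have h2 := cl_le_cardFactors (G := stabilizer G a)
  have h3 := cl_stabilizer_eq N a
  rw [cl_normal N, hn]
  omega

/-- Two non-abelian minimal normal subgroups. -/
theorem two_socle (hprim : IsPreprimitive G α) (hb : Below (Nat.card α)) {N : Subgroup G} [N.Normal] (hne : N ≠ ⊥)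
    (hmin : ∀ M : Subgroup G, M.Normal → M ≤ N → M = ⊥ ∨ M = N) (hab : ¬ IsMulCommutative N)
    (h3p : 3 ≤ (Nat.card N).primeFactors.card) (hC : centralizer (N : Set G) ≠ ⊥) (a : α) :
    3 * cl G ≤ 4 * (Nat.card α - 1) := by
  classical
  obtain ⟨M, ⟨hMn, hM0, hMC⟩, hMmin'⟩ := (Set.toFinite
    {K : Subgroup G | K.Normal ∧ K ≠ ⊥ ∧ K ≤ centralizer (N : Set G)}).exists_minimal
      ⟨centralizer (N : Set G), inferInstance, hC, le_rfl⟩
  haveI := hMn
  have hMmin : ∀ K : Subgroup G, K.Normal → K ≤ M → K = ⊥ ∨ K = M := fun K hKn hKM => by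
    by_cases hK : K = ⊥
    · exact Or.inl hK
    · exact Or.inr (le_antisymm hKM (hMmin' ⟨hKn, hK, hKM.trans hMC⟩ hKM))
  haveI htN := Cfsg.Lib.PrimTypes.pretransitive_of_normal (Ω := α) hprim N hne
  haveI htM := Cfsg.Lib.PrimTypes.pretransitive_of_normal (Ω := α) hprim M hM0
  have hNM : N ≤ centralizer (M : Set G) := Subgroup.le_centralizer_iff.1 hMC
  have hsemi : ∀ {X C : Subgroup G}, C.Normal → C ≠ ⊥ → X ≤ centralizer (C : Set G) → Nat.card X ≤ Nat.card α :=
    fun {X C} hCn hC0 hXC => semiregular_card_le a fun x hx h => by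
      haveI := hCn
      exact Cfsg.Lib.PrimTypes.semiregular_of_centralized hprim hC0 hXC hx h
  have hge : ∀ (X : Subgroup G) [IsPretransitive X α], Nat.card α ≤ Nat.card X := fun X _ =>
    (card_stabilizer_eq X a) ▸ Nat.le_mul_of_pos_right _ Nat.card_pos
  have hcN : Nat.card N = Nat.card α := le_antisymm (hsemi hMn hM0 hNM) (hge N)
  have hcM : Nat.card M = Nat.card α := le_antisymm (hsemi inferInstance hne hMC) (hge M)
  have hCN : centralizer (N : Set G) = M :=
    (eq_of_le_of_card_ge hMC ((hsemi inferInstance hne le_rfl).trans hcM.ge)).symm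
  have hker : M ⊓ centralizer (M : Set G) = ⊥ := by
    refine (hMmin _ inferInstance inf_le_left).resolve_right fun h => hab ?_
    have hMM : M ≤ centralizer (M : Set G) := inf_eq_left.1 h
    have h1 : M = centralizer (M : Set G) :=
      eq_of_le_of_card_ge hMM ((hsemi hMn hM0 le_rfl).trans hcM.ge)
    have h2 : N ≤ M := hNM.trans h1.ge
    exact ⟨⟨fun x y => Subtype.ext (mem_centralizer_iff.1 (hMM (h2 y.2)) x (h2 x.2))⟩⟩
  have key : ∀ K : Subgroup G, K.Normal → Nat.card K = Nat.card α →
      ∃ x ∈ K, x ≠ 1 ∧ 3 * (cls x).ncard ≤ Nat.card α - 1 := by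
    intro K hK hcard
    obtain ⟨x, hx, hle⟩ := exists_small_cls (E := (K : Set G) \ {1}) (P := (Nat.card N).primeFactors)
      (fun c hc g => ⟨hK.conj_mem c hc.1 g, fun e => hc.2 (conj_eq_one_iff.1 e)⟩) h3p fun p hp => by
        haveI := Fact.mk (Nat.prime_of_mem_primeFactors hp)
        obtain ⟨y, hy⟩ := exists_prime_orderOf_dvd_card' (G := K) p (by
          rw [hcard, ← hcN]; exact Nat.dvd_of_mem_primeFactors hp)
        rw [← Subgroup.orderOf_coe] at hy
        refine ⟨y, ⟨y.2, fun e => (Fact.out : p.Prime).ne_one ?_⟩, hy⟩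
        rw [← hy, Set.mem_singleton_iff.1 e, orderOf_one]
    refine ⟨x, hx.1, hx.2, hle.trans ?_⟩
    rw [Set.ncard_sdiff_singleton_of_mem (one_mem K), ← hcard]
    rfl
  obtain ⟨x, hxN, hx1, hx3⟩ := key N inferInstance hcN
  obtain ⟨y, hyM, hy1, hy3⟩ := key M hMn hcM
  refine bound_of_conj hb (E := cls x ∪ cls y) ⟨x, Or.inl (mem_cls_self x)⟩ (fun c hc g => hc.imp
    (fun h => cls_conj h g) fun h => cls_conj h g) (fun g hg => ?_) ?_
  · have h1 := le_centralizer_of_cls hmin hxN hx1 fun c hc => hg c (Or.inl hc)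
    have h2 := le_centralizer_of_cls hMmin hyM hy1 fun c hc => hg c (Or.inr hc)
    rw [hCN] at h1
    exact mem_bot.1 (hker ▸ (⟨h1, h2⟩ : g ∈ M ⊓ centralizer (M : Set G)))
  · have := Set.ncard_union_le (cls x) (cls y)
    have : 0 < Nat.card α := hcN ▸ Nat.card_pos
    omega

theorem mul_le_three_pow {t m s : ℕ} (ht : 2 ≤ t) (hs : m ≤ 2 * s) : m * t ≤ 3 * t ^ s := by
  rcases Nat.eq_zero_or_pos s with rfl | hs1
  · simp [show m = 0 by omega]
  obtain ⟨k, rfl⟩ := Nat.exists_eq_succ_of_ne_zero hs1.ne'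
  have h : 2 * (k + 1) ≤ 3 * 2 ^ k := by
    clear hs hs1
    induction k with
    | zero => norm_num
    | succ k ih =>
      have : 1 ≤ 2 ^ k := Nat.one_le_two_pow
      rw [pow_succ]
      omega
  calc m * t ≤ 3 * 2 ^ k * t := Nat.mul_le_mul_right _ (hs.trans h)
    _ ≤ 3 * t ^ k * t := Nat.mul_le_mul_right _ (Nat.mul_le_mul_left _ (Nat.pow_le_pow_left ht k))
    _ = 3 * t ^ (k + 1) := by rw [pow_succ, mul_assoc]

/-- A unique minimal normal subgroup, non-abelian and not simple. -/
theorem monolith (H : Subgroup (Equiv.Perm α)) [IsPreprimitive H α] (hb : Below (Nat.card α)) (N : Subgroup H)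
    [N.Normal] (hne : N ≠ ⊥) (hmin : ∀ M : Subgroup H, M.Normal → M ≤ N → M = ⊥ ∨ M = N)
    (hab : ¬ IsMulCommutative N) (hC : centralizer (N : Set H) = ⊥) (a : α) (h2 : 2 ≤ Nat.card α) :
    3 * cl H ≤ 4 * (Nat.card α - 1) := by
  classical
  obtain ⟨T, _, m, e, hsimp, hnT, hm, hcase⟩ := Cfsg.Agent.S0723.result H N hne hmin (fun L hL hL0 hLmin => by
    haveI := hL
    by_contra hLN
    refine hL0 (le_bot_iff.1 (hC ▸ fun l hl => mem_centralizer_iff.2 fun n hn => ?_))
    have hdis : Disjoint N L := disjoint_iff.2 <| (hmin _ inferInstance inf_le_left).resolve_right fun h => by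
      rcases hLmin N inferInstance (inf_eq_left.1 h) with h' | h'
      exacts [hne h', hLN h'.symm]
    exact commute_of_normal_of_disjoint N L inferInstance hL hdis n l hn hl) hab a
  haveI := hsimp
  haveI : Nontrivial T := IsSimpleGroup.toNontrivial
  haveI : Finite T := Finite.of_injective (fun t : T => e.symm (Pi.mulSingle (⟨0, hm⟩ : Fin m) t))
    (e.symm.injective.comp (Pi.mulSingle_injective (M := fun _ : Fin m => T) _))
  have hT : ∃ x y : T, x * y ≠ y * x := by
    by_contra h
    push Not at h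
    exact hnT ⟨⟨h⟩⟩
  haveI := Cfsg.Lib.PrimTypes.pretransitive_of_normal (Ω := α) (G := H) inferInstance N hne
  have horb := card_stabilizer_eq N a
  have hcardN : Nat.card N = Nat.card T ^ m := by rw [Nat.card_congr e.toEquiv, Nat.card_fun, Nat.card_fin]
  have ht2 : 2 ≤ Nat.card T := Finite.one_lt_card
  -- when the degree is large, a class in a factor gives a smaller action
  have hsmall : m * Nat.card T ≤ 3 * Nat.card α → 3 * cl H ≤ 4 * (Nat.card α - 1) := by
    intro hle
    let F : Set H := (fun it : Fin m × T => ((e.symm (Pi.mulSingle it.1 it.2) : N) : H)) '' {it | it.2 ≠ 1}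
    have hF : ∀ c ∈ F, ∀ g : H, g * c * g⁻¹ ∈ F := by
      rintro _ ⟨⟨i, t⟩, ht, rfl⟩ g
      set f : (Fin m → T) ≃* (Fin m → T) := (e.symm.trans (MulAut.conjNormal g)).trans e with hf
      obtain ⟨σ, hσ⟩ := Cfsg.Lib.SimplePower.exists_perm hT f
      obtain ⟨s, hs⟩ := (hσ i).2 _ ⟨t, rfl⟩
      have hs' : e.symm (f (Pi.mulSingle i t)) = MulAut.conjNormal g (e.symm (Pi.mulSingle i t)) := by
        simp [hf]
      refine ⟨(σ i, s), fun hs1 => ?_, ?_⟩
      · change s = 1 at hs1
        rw [hs1, map_one] at hs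
        exact ht (Pi.mulSingle_eq_one_iff.1 (f.map_eq_one_iff.1 hs.symm))
      · show ((e.symm (Pi.mulSingle (σ i) s) : N) : H) = _
        rw [show (Pi.mulSingle (σ i) s : Fin m → T) = f (Pi.mulSingle i t) from hs, hs', MulAut.conjNormal_apply]
    have hFcard : F.ncard ≤ m * (Nat.card T - 1) := by
      refine (Set.ncard_image_le (Set.toFinite _)).trans (le_of_eq ?_)
      have hset : {it : Fin m × T | it.2 ≠ 1} = Set.univ ×ˢ ({1}ᶜ : Set T) := by ext; simp
      rw [hset, Set.ncard_prod, Set.ncard_univ, Nat.card_fin, Set.ncard_compl, Set.ncard_singleton]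
    obtain ⟨x, hx, hx3⟩ := exists_small_cls hF (P := (Nat.card T).primeFactors) (by
        have hS : IsSimpleGroup (⊤ : Subgroup T) := Subgroup.topEquiv.isSimpleGroup
        have := Cfsg.Lib.PrimTypes.exists_three_primes hS fun h => hnT
          ⟨⟨fun x y => congrArg Subtype.val (h.is_comm.comm (⟨x, mem_top x⟩ : (⊤ : Subgroup T)) ⟨y, mem_top y⟩)⟩⟩
        rwa [card_top] at this) fun p hp => by
      haveI := Fact.mk (Nat.prime_of_mem_primeFactors hp)
      obtain ⟨t, ht⟩ := exists_prime_orderOf_dvd_card' (G := T) p (Nat.dvd_of_mem_primeFactors hp)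
      refine ⟨_, ⟨(⟨0, hm⟩, t), fun h => (Fact.out : p.Prime).ne_one ?_, rfl⟩, ?_⟩
      · rw [← ht, (show t = 1 from h), orderOf_one]
      · rw [← ht, Subgroup.orderOf_coe]
        exact orderOf_injective (e.symm.toMonoidHom.comp (MonoidHom.mulSingle (fun _ : Fin m => T) ⟨0, hm⟩))
          (e.symm.injective.comp (Pi.mulSingle_injective (M := fun _ : Fin m => T) _)) t
    obtain ⟨⟨i, t⟩, ht, rfl⟩ := hx
    refine bound_of_conj hb (E := cls ((e.symm (Pi.mulSingle i t) : N) : H)) ⟨_, mem_cls_self _⟩ (fun c hc g => cls_conj hc g) (fun g hg => ?_) ?_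
    · exact mem_bot.1 (hC ▸ le_centralizer_of_cls hmin (SetLike.coe_mem _) (fun h => ht
        (Pi.mulSingle_eq_one_iff.1 (e.symm.map_eq_one_iff.1 (Subtype.ext h)))) hg)
    · have h1 : 3 * (cls ((e.symm (Pi.mulSingle i t) : N) : H)).ncard ≤ m * (Nat.card T - 1) := hx3.trans hFcard
      have h3 : m * (Nat.card T - 1) + m = m * Nat.card T := by
        rw [← Nat.mul_succ, Nat.succ_eq_add_one, Nat.sub_add_cancel (by omega)]
      omega
  rcases hcase with ⟨K, hK, hmem⟩ | ⟨k, c, hk, hc, hmem⟩
  · by_cases hbot : ∃ i, K i = ⊥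
    · -- a factor meets the stabiliser trivially
      obtain ⟨i₀, hi₀⟩ := hbot
      refine hsmall ?_
      have hcs : Nat.card (stabilizer N a) = ∏ i, Nat.card (K i) := by
        rw [← Nat.card_pi]
        exact Nat.card_congr
          { toFun := fun x i => ⟨e x.1 i, (hmem x.1).1 x.2 i⟩
            invFun := fun f => ⟨e.symm fun i => (f i : T), (hmem _).2 fun i => by
              rw [MulEquiv.apply_symm_apply]; exact (f i).2⟩
            left_inv := fun x => Subtype.ext (e.symm_apply_apply _)
            right_inv := fun f => funext fun i => Subtype.ext (congrFun (e.apply_symm_apply _) i) }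
      have hprod : 2 ^ (m - 1) * ∏ i, Nat.card (K i) ≤ Nat.card T ^ (m - 1) := by
        rw [← Finset.mul_prod_erase _ _ (Finset.mem_univ i₀), hi₀, card_bot, one_mul,
          show m - 1 = (Finset.univ.erase i₀).card by simp, ← Finset.prod_const, ← Finset.prod_const,
          ← Finset.prod_mul_distrib]
        refine Finset.prod_le_prod' fun i _ => ?_
        rw [← (K i).card_mul_index, mul_comm 2]
        exact Nat.mul_le_mul_left _ (Subgroup.one_lt_index_of_ne_top (hK i))
      have h5 : 2 ^ (m - 1) * Nat.card T ≤ Nat.card α := by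
        refine Nat.le_of_mul_le_mul_right ?_ (Nat.card_pos (α := stabilizer N a))
        rw [horb, hcardN, hcs, mul_right_comm, ← pow_sub_one_mul hm.ne' (Nat.card T)]
        exact Nat.mul_le_mul_right _ hprod
      have h6 : m ≤ 2 ^ (m - 1) := by
        have := Nat.lt_two_pow_self (n := m - 1)
        omega
      calc m * Nat.card T ≤ 2 ^ (m - 1) * Nat.card T := Nat.mul_le_mul_right _ h6
        _ ≤ Nat.card α := h5
        _ ≤ 3 * Nat.card α := Nat.le_mul_of_pos_left _ (by norm_num)
    · -- product action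
      push Not at hbot
      haveI : ∀ i, Nontrivial (K i) := fun i => (Subgroup.nontrivial_iff_ne_bot _).2 (hbot i)
      let ee : stabilizer N a ≃* (∀ i, K i) :=
        { toFun := fun x i => ⟨e x.1 i, (hmem x.1).1 x.2 i⟩
          invFun := fun f => ⟨e.symm fun i => (f i : T), (hmem _).2 fun i => by
            rw [MulEquiv.apply_symm_apply]; exact (f i).2⟩
          left_inv := fun x => Subtype.ext (e.symm_apply_apply _)
          right_inv := fun f => funext fun i => Subtype.ext (congrFun (e.apply_symm_apply _) i)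
          map_mul' := fun x y => funext fun i => Subtype.ext
            (congrFun (map_mul e x.1 y.1) i) }
      have h1 : m ≤ cl (stabilizer N a) := (cl_congr ee).symm ▸ le_cl_pi fun i => (K i)
      have h3 : cl N ≤ m := (cl_congr e).trans_le (cl_power_le T m)
      have h4 := cl_stabilizer_eq N a
      have h5 := cl_stabilizer_le (G := H) hb a h2
      rw [cl_normal N]
      omega
  · -- diagonal
    refine hsmall ?_
    have hr : 2 * (Finset.univ.image c).card ≤ m := by
      calc 2 * (Finset.univ.image c).card = ∑ j ∈ Finset.univ.image c, 2 := by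
            rw [Finset.sum_const, smul_eq_mul, mul_comm]
        _ ≤ ∑ j ∈ Finset.univ.image c, (Finset.univ.filter fun i => c i = j).card := by
            refine Finset.sum_le_sum fun j hj => ?_
            have hfc : (Finset.univ.filter fun i => c i = j).card = Nat.card {i : Fin m // c i = j} := by
              rw [Nat.card_eq_fintype_card, Fintype.card_subtype]
            obtain ⟨i, -, rfl⟩ := Finset.mem_image.1 hj
            rcases hc (c i) with h | h
            · omega
            · haveI : Nonempty {l : Fin m // c l = c i} := ⟨⟨i, rfl⟩⟩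
              exact absurd h Nat.card_pos.ne'
        _ = m := (Finset.card_eq_sum_card_image c Finset.univ).symm.trans (by simp)
    have hcs : Nat.card (stabilizer N a) ≤ Nat.card T ^ (Finset.univ.image c).card := by
      have hrep : ∀ j : (Finset.univ.image c : Finset (Fin m)), ∃ i, c i = j := fun j => by
        obtain ⟨i, -, hi⟩ := Finset.mem_image.1 j.2
        exact ⟨i, hi⟩
      choose rep hrep using hrep
      refine (Nat.card_le_card_of_injective (fun x : stabilizer N a => fun j => e x.1 (rep j))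
        fun x y h => Subtype.ext (e.injective (funext fun i => ?_))).trans_eq (by
          rw [Nat.card_fun, Nat.card_eq_fintype_card (α := ↥(Finset.univ.image c)), Fintype.card_coe])
      have hi := hrep ⟨c i, Finset.mem_image_of_mem c (Finset.mem_univ i)⟩
      rw [← (hmem x.1).1 x.2 _ _ hi, ← (hmem y.1).1 y.2 _ _ hi]
      exact congrFun h ⟨c i, _⟩
    have h5 : Nat.card T ^ (m - (Finset.univ.image c).card) ≤ Nat.card α := by
      refine Nat.le_of_mul_le_mul_right ?_ (pow_pos (show 0 < Nat.card T by omega) (Finset.univ.image c).card)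
      rw [← pow_add, Nat.sub_add_cancel (by omega), ← hcardN, ← horb]
      exact Nat.mul_le_mul_left _ hcs
    exact (mul_le_three_pow ht2 (by omega)).trans (Nat.mul_le_mul_left 3 h5)

end Cfsg.Lib.CompLength
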